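import Mathlib
import Groth.Agent.Lib.Helper8.Japanese.HensNag4

namespace Groth.Agent.H8.Delta
open IsLocalRing TensorProduct
universe u

/-- A ring generated by compatible images of a field `L` and a separable algebraic extension `K`
of `k` is absolutely flat. -/
theorem exists_eq_mul_sq_of_generated (k L K R : Type u) [Field k] [Field L] [Field K]
    [Algebra k L] [Algebra k K] [Algebra.IsSeparable k K] [CommRing R]
    (α : L →+* R) (β : K →+* R)
    (hαβ : α.comp (algebraMap k L) = β.comp (algebraMap k K))
    (hgen : ∀ r : R, r ∈ AddSubmonoid.closure {z : R | ∃ l x, z = α l * β x}) (t : R) :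
    ∃ s : R, t = t * t * s := by
  letI : Algebra k R := (α.comp (algebraMap k L)).toAlgebra
  let α' : L →ₐ[k] R := { α with commutes' := fun r => rfl }
  let β' : K →ₐ[k] R := { β with commutes' := fun r => (RingHom.congr_fun hαβ r).symm }
  let π : L ⊗[k] K →ₐ[k] R := Algebra.TensorProduct.productMap α' β'
  have hsurj : Function.Surjective π := by
    intro r
    have h := hgen r
    induction h using AddSubmonoid.closure_induction with
    | mem z hz =>
      obtain ⟨l, x, rfl⟩ := hz
      exact ⟨l ⊗ₜ x, by simp [π, α', β']⟩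
    | zero => exact ⟨0, map_zero _⟩
    | add z w _ _ hz hw =>
      obtain ⟨z, rfl⟩ := hz
      obtain ⟨w, rfl⟩ := hw
      exact ⟨z + w, map_add _ _ _⟩
  obtain ⟨_, habs⟩ := Jap.HensNag.absFlat_tensor_of_isSeparable k K L
  obtain ⟨z, rfl⟩ := hsurj t
  obtain ⟨s, hs⟩ := habs z
  exact ⟨π s, by rw [← map_mul, ← map_mul, ← hs]⟩

end Groth.Agent.H8.Delta
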