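import Mathlib
import Groth.Agent.Lib.Helper8.Delta.D1

namespace Groth.Agent.H8.Delta
open IsLocalRing TensorProduct
universe u

/-- The closed fibre of `A' → A' ⊗[A] B` at a maximal ideal `n` over `m_A` is absolutely flat when
`m_A B = m_B` and `κ(B)/κ(A)` is separable algebraic: every `y` in a proper ideal `N` is killed
modulo `n (A' ⊗ B)` by some `s ∉ N`. -/
theorem exists_notMem_mul_mem_map (A B A' : Type u) [CommRing A] [CommRing B] [CommRing A']
    [IsLocalRing A] [IsLocalRing B] [Algebra A B] [IsLocalHom (algebraMap A B)] [Algebra A A']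
    [Algebra.IsSeparable (ResidueField A) (ResidueField B)]
    (hm : (maximalIdeal A).map (algebraMap A B) = maximalIdeal B)
    (n : Ideal A') [hn : n.IsMaximal] (hnA : n.comap (algebraMap A A') = maximalIdeal A)
    (N : Ideal (A' ⊗[A] B)) (hN : N ≠ ⊤) (y : A' ⊗[A] B) (hy : y ∈ N) :
    ∃ s : A' ⊗[A] B, s ∉ N ∧ s * y ∈ n.map (algebraMap A' (A' ⊗[A] B)) := by
  letI : Field (A' ⧸ n) := Ideal.Quotient.field n
  have h_id : ∀ a : A, algebraMap A' (A' ⊗[A] B) (algebraMap A A' a) =
      (1 : A') ⊗ₜ[A] (algebraMap A B a) := by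
    intro a
    rw [Algebra.TensorProduct.algebraMap_apply, Algebra.algebraMap_self, RingHom.id_apply,
      Algebra.algebraMap_eq_smul_one, Algebra.algebraMap_eq_smul_one (R := A) (A := B),
      TensorProduct.smul_tmul]
  -- the `κ(A)`-algebra structure on `A' ⧸ n`
  let γ : ResidueField A →+* A' ⧸ n :=
    Ideal.Quotient.lift (maximalIdeal A) ((Ideal.Quotient.mk n).comp (algebraMap A A'))
      (fun a ha => by
        rw [RingHom.comp_apply, Ideal.Quotient.eq_zero_iff_mem]
        rw [← hnA] at ha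
        exact ha)
  letI : Algebra (ResidueField A) (A' ⧸ n) := γ.toAlgebra
  let J : Ideal (A' ⊗[A] B) := n.map (algebraMap A' (A' ⊗[A] B))
  let α : A' ⧸ n →+* (A' ⊗[A] B) ⧸ J :=
    Ideal.Quotient.lift n ((Ideal.Quotient.mk J).comp (algebraMap A' (A' ⊗[A] B)))
      (fun a ha => by
        rw [RingHom.comp_apply, Ideal.Quotient.eq_zero_iff_mem]
        exact Ideal.mem_map_of_mem _ ha)
  have hmB : maximalIdeal B ≤ J.comap
      (Algebra.TensorProduct.includeRight : B →ₐ[A] A' ⊗[A] B).toRingHom := by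
    rw [← hm, Ideal.map_le_iff_le_comap]
    intro a ha
    rw [Ideal.mem_comap, Ideal.mem_comap]
    have h1 : (Algebra.TensorProduct.includeRight : B →ₐ[A] A' ⊗[A] B).toRingHom
        (algebraMap A B a) = algebraMap A' (A' ⊗[A] B) (algebraMap A A' a) := (h_id a).symm
    rw [h1]
    apply Ideal.mem_map_of_mem
    rw [← hnA] at ha
    exact ha
  let β : ResidueField B →+* (A' ⊗[A] B) ⧸ J :=
    Ideal.Quotient.lift (maximalIdeal B) ((Ideal.Quotient.mk J).comp
      (Algebra.TensorProduct.includeRight : B →ₐ[A] A' ⊗[A] B).toRingHom)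
      (fun b hb => by
        rw [RingHom.comp_apply, Ideal.Quotient.eq_zero_iff_mem]
        exact hmB hb)
  have hα : ∀ a : A', α (Ideal.Quotient.mk n a) =
      Ideal.Quotient.mk J (algebraMap A' (A' ⊗[A] B) a) := fun a => rfl
  have hβ : ∀ b : B, β (residue B b) = Ideal.Quotient.mk J ((1 : A') ⊗ₜ[A] b) := fun b => rfl
  have hαβ : α.comp (algebraMap (ResidueField A) (A' ⧸ n)) =
      β.comp (algebraMap (ResidueField A) (ResidueField B)) := by
    apply Ideal.Quotient.ringHom_ext
    ext a
    show α (γ (Ideal.Quotient.mk _ a)) = β (ResidueField.map (algebraMap A B) (residue A a))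
    rw [ResidueField.map_residue, hβ]
    show α (Ideal.Quotient.mk n (algebraMap A A' a)) = _
    rw [hα, h_id]
  have hgen : ∀ r : (A' ⊗[A] B) ⧸ J,
      r ∈ AddSubmonoid.closure {z : (A' ⊗[A] B) ⧸ J | ∃ l x, z = α l * β x} := by
    intro r
    obtain ⟨c, rfl⟩ := Ideal.Quotient.mk_surjective r
    induction c using TensorProduct.induction_on with
    | zero => rw [map_zero]; exact zero_mem _
    | tmul a b =>
      apply AddSubmonoid.subset_closure
      refine ⟨Ideal.Quotient.mk n a, residue B b, ?_⟩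
      rw [hα, hβ, ← map_mul]
      congr 1
      rw [Algebra.TensorProduct.algebraMap_apply, Algebra.TensorProduct.tmul_mul_tmul]
      simp
    | add z w hz hw =>
      rw [map_add]; exact add_mem hz hw
  obtain ⟨s', hs'⟩ := exists_eq_mul_sq_of_generated (ResidueField A) (A' ⧸ n) (ResidueField B)
    ((A' ⊗[A] B) ⧸ J) α β hαβ hgen (Ideal.Quotient.mk J y)
  obtain ⟨s, rfl⟩ := Ideal.Quotient.mk_surjective s'
  refine ⟨1 - y * s, ?_, ?_⟩
  · intro h
    apply hN
    rw [Ideal.eq_top_iff_one]
    have : (1 : A' ⊗[A] B) = (1 - y * s) + y * s := by ring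
    rw [this]
    exact N.add_mem h (N.mul_mem_right _ hy)
  · show (1 - y * s) * y ∈ J
    rw [← Ideal.Quotient.eq_zero_iff_mem, map_mul, map_sub, map_one, map_mul, sub_mul, one_mul,
      sub_eq_zero]
    rw [mul_assoc, mul_comm (Ideal.Quotient.mk J s), ← mul_assoc]
    exact hs'

end Groth.Agent.H8.Delta
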