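import Mathlib

namespace Groth.Agent.H8.Delta
open IsLocalRing TensorProduct
universe u

/-- A normal localization `A'_n` of an integral Noetherian extension of a ring of dimension
`≤ 1`, with `n` containing a nonzerodivisor, is a DVR. -/
theorem isDVR_atPrime_of_isIntegral (A A' : Type u) [CommRing A] [CommRing A'] [Algebra A A']
    [Algebra.IsIntegral A A'] [IsNoetherianRing A'] [Ring.KrullDimLE 1 A]
    (n : Ideal A') [n.IsPrime] [IsDomain (Localization.AtPrime n)]
    [IsIntegrallyClosed (Localization.AtPrime n)]
    (t : A') (htn : t ∈ n) (ht : t ∈ nonZeroDivisors A') :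
    IsDiscreteValuationRing (Localization.AtPrime n) := by
  haveI : IsNoetherianRing (Localization.AtPrime n) :=
    IsLocalization.isNoetherianRing n.primeCompl _ inferInstance
  have hnf : ¬ IsField (Localization.AtPrime n) := by
    intro hf
    have h0 : maximalIdeal (Localization.AtPrime n) = ⊥ :=
      IsLocalRing.isField_iff_maximalIdeal_eq.1 hf
    have h1 : algebraMap A' (Localization.AtPrime n) t ∈ maximalIdeal (Localization.AtPrime n) := by
      rw [← Localization.AtPrime.map_eq_maximalIdeal]
      exact Ideal.mem_map_of_mem _ htn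
    rw [h0, Ideal.mem_bot, IsLocalization.map_eq_zero_iff n.primeCompl] at h1
    obtain ⟨u, hu⟩ := h1
    have : (u : A') = 0 := (mem_nonZeroDivisors_iff_right.1 ht) _ hu
    exact u.2 (by rw [this]; exact n.zero_mem)
  -- strict monotonicity of contraction to `A`
  have hstrict : ∀ Q₁ Q₂ : Ideal (Localization.AtPrime n), Q₁.IsPrime → Q₂.IsPrime → Q₁ < Q₂ →
      (Q₁.comap (algebraMap A' (Localization.AtPrime n))).comap (algebraMap A A') <
        (Q₂.comap (algebraMap A' (Localization.AtPrime n))).comap (algebraMap A A') := by
    intro Q₁ Q₂ h1 h2 hlt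
    haveI : (Q₁.comap (algebraMap A' (Localization.AtPrime n))).IsPrime := Ideal.comap_isPrime _ _
    apply Ideal.IsIntegral.comap_lt_comap
    refine lt_of_le_of_ne (Ideal.comap_mono hlt.le) ?_
    intro heq
    have := congrArg (Ideal.map (algebraMap A' (Localization.AtPrime n))) heq
    rw [IsLocalization.map_under n.primeCompl, IsLocalization.map_under n.primeCompl] at this
    exact hlt.ne this
  have h3 := (IsDiscreteValuationRing.TFAE (Localization.AtPrime n) hnf).out 0 3
  rw [h3]
  refine ⟨inferInstance, maximalIdeal _, ⟨?_, inferInstance⟩, ?_⟩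
  · intro h0
    exact hnf (IsLocalRing.isField_iff_maximalIdeal_eq.2 h0)
  · rintro P ⟨hP0, hP⟩
    by_contra hne
    have hlt : P < maximalIdeal (Localization.AtPrime n) :=
      lt_of_le_of_ne (le_maximalIdeal hP.ne_top) hne
    have hbot : (⊥ : Ideal (Localization.AtPrime n)) < P := bot_lt_iff_ne_bot.2 hP0
    have c1 := hstrict ⊥ P Ideal.isPrime_bot hP hbot
    have c2 := hstrict P (maximalIdeal _) hP inferInstance hlt
    set p₁ := (P.comap (algebraMap A' (Localization.AtPrime n))).comap (algebraMap A A') with hp₁
    haveI : p₁.IsPrime := by rw [hp₁]; infer_instance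
    rcases Ring.krullDimLE_one_iff.1 inferInstance p₁ inferInstance with hmin | hmax
    · have hbp : (((⊥ : Ideal (Localization.AtPrime n)).comap
          (algebraMap A' (Localization.AtPrime n))).comap (algebraMap A A')).IsPrime := by
        infer_instance
      have := hmin.2 ⟨hbp, bot_le⟩ c1.le
      exact c1.not_ge this
    · have hne_top : ((maximalIdeal (Localization.AtPrime n)).comap
          (algebraMap A' (Localization.AtPrime n))).comap (algebraMap A A') ≠ ⊤ :=
        Ideal.IsPrime.ne_top inferInstance
      exact c2.ne (hmax.eq_of_le hne_top c2.le)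

end Groth.Agent.H8.Delta
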