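import Mathlib
import Groth.Agent.Lib.Helper8.Hens.Normal

namespace Groth.Agent.H8.Delta
open IsLocalRing TensorProduct Polynomial
universe u

/-- Let `ψ : C → K` be an injective ring homomorphism, `C` locally (at maximal ideals) an
integrally closed domain. An element `x = b/s₀` of `K` which is integral over `B` (mapping to
`C`) lies in the image of `ψ`. -/
theorem mem_range_of_isIntegral_of_normal {B C K : Type u} [CommRing B] [CommRing C] [CommRing K]
    (ι : B →+* C) (ψ : C →+* K) (hψ : Function.Injective ψ)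
    (hN : ∀ (N : Ideal C) [N.IsMaximal], IsDomain (Localization.AtPrime N) ∧
      IsIntegrallyClosed (Localization.AtPrime N))
    (x : K) (p : B[X]) (hp : p.Monic) (hpx : eval₂ (ψ.comp ι) x p = 0)
    (s₀ b : B) (hs₀ : IsUnit (ψ (ι s₀))) (hx : ψ (ι s₀) * x = ψ (ι b)) :
    x ∈ ψ.range := by
  -- the ideal of denominators
  let I : Ideal C :=
    { carrier := {c | ψ c * x ∈ ψ.range}
      add_mem' := by
        intro c d hc hd
        show ψ (c + d) * x ∈ ψ.range
        rw [map_add, add_mul]
        exact ψ.range.add_mem hc hd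
      zero_mem' := by
        show ψ 0 * x ∈ ψ.range
        rw [map_zero, zero_mul]; exact ψ.range.zero_mem
      smul_mem' := by
        intro r c hc
        show ψ (r • c) * x ∈ ψ.range
        rw [smul_eq_mul, map_mul, mul_assoc]
        exact ψ.range.mul_mem ⟨r, rfl⟩ hc }
  have hI : ∀ c, c ∈ I ↔ ψ c * x ∈ ψ.range := fun c => Iff.rfl
  suffices h1 : (1 : C) ∈ I by
    rw [hI, map_one, one_mul] at h1
    exact h1
  rw [← Ideal.eq_top_iff_one]
  by_contra hne
  obtain ⟨N, hNmax, hIN⟩ := Ideal.exists_le_maximal I hne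
  obtain ⟨hdom, hic⟩ := hN N
  -- the scaled polynomial vanishes in `C`
  have hsnzd : ι s₀ ∈ nonZeroDivisors C := by
    rw [mem_nonZeroDivisors_iff_right]
    intro z hz
    have : ψ z * ψ (ι s₀) = 0 := by rw [← map_mul, hz, map_zero]
    have h2 := hs₀.mul_left_eq_zero.1 this
    exact hψ (by rw [h2, map_zero])
  have hC : eval₂ ι (ι b) (scaleRoots p s₀) = 0 := by
    apply hψ
    rw [map_zero, hom_eval₂, ← hx]
    have := scaleRoots_eval₂_mul (p := p) (ψ.comp ι) x s₀
    rw [RingHom.comp_apply] at this
    rw [this, hpx, mul_zero]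
  let g : B →+* Localization.AtPrime N := (algebraMap C (Localization.AtPrime N)).comp ι
  have hV : eval (g b) (scaleRoots (p.map g) (g s₀)) = 0 := by
    have h1 : (p.scaleRoots s₀).map g = (p.map g).scaleRoots (g s₀) := by
      apply Polynomial.map_scaleRoots
      rw [hp.leadingCoeff, map_one]; exact one_ne_zero
    rw [← h1, eval_map]
    have := congrArg (algebraMap C (Localization.AtPrime N)) hC
    rw [map_zero, hom_eval₂] at this
    exact this
  have hgs : g s₀ ≠ 0 := by
    intro h0
    rw [RingHom.comp_apply, IsLocalization.map_eq_zero_iff N.primeCompl] at h0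
    obtain ⟨u, hu⟩ := h0
    have : (u : C) = 0 := (mem_nonZeroDivisors_iff_right.1 hsnzd) _ hu
    exact u.2 (by rw [this]; exact N.zero_mem)
  obtain ⟨v, hv⟩ := Hens.dvd_of_eval_scaleRoots_eq_zero (hp.map g) hgs hV
  obtain ⟨c, u, rfl⟩ := IsLocalization.exists_mk'_eq N.primeCompl v
  have h2 : algebraMap C (Localization.AtPrime N) (ι b * u) =
      algebraMap C (Localization.AtPrime N) (ι s₀ * c) := by
    rw [map_mul, map_mul]
    have : g b = algebraMap C (Localization.AtPrime N) (ι b) := rfl
    rw [← this, hv]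
    have : g s₀ = algebraMap C (Localization.AtPrime N) (ι s₀) := rfl
    rw [this, mul_assoc, IsLocalization.mk'_spec]
  rw [IsLocalization.eq_iff_exists N.primeCompl] at h2
  obtain ⟨u', hu'⟩ := h2
  have hmem : (u' : C) * u ∈ I := by
    rw [hI]
    refine ⟨u' * c, ?_⟩
    apply hs₀.mul_left_cancel
    have h3 := congrArg ψ hu'
    simp only [map_mul] at h3 ⊢
    rw [← hx] at h3
    linear_combination -h3
  have : (u' : C) * u ∈ N := hIN hmem
  rcases (Ideal.IsMaximal.isPrime hNmax).mem_or_mem this with h | h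
  · exact u'.2 h
  · exact u.2 h

end Groth.Agent.H8.Delta
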