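import Mathlib

namespace Groth.Agent.H8.Delta
open IsLocalRing TensorProduct
universe u

section
variable (A B : Type u) [CommRing A] [CommRing B] [Algebra A B] [Module.Flat A B]

theorem algebraMap_mem_nonZeroDivisors {s : A} (hs : s ∈ nonZeroDivisors A) :
    algebraMap A B s ∈ nonZeroDivisors B := by
  have hreg : IsSMulRegular A s := by
    intro a b hab
    simp only [smul_eq_mul] at hab
    have h1 : (a - b) * s = 0 := by rw [sub_mul, mul_comm a, mul_comm b, hab, sub_self]
    exact sub_eq_zero.1 ((mem_nonZeroDivisors_iff_right.1 hs) _ h1)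
  have := IsSMulRegular.of_flat (S := B) hreg
  rw [mem_nonZeroDivisors_iff_right]
  intro z hz
  apply this
  simp only [smul_eq_mul, mul_zero]
  rw [mul_comm]; exact hz

theorem isUnit_algebraMap_fractionRing (s : nonZeroDivisors A) :
    IsUnit (algebraMap A (FractionRing B) s) := by
  rw [IsScalarTower.algebraMap_apply A B (FractionRing B)]
  exact IsLocalization.map_units (FractionRing B)
    (⟨algebraMap A B s, algebraMap_mem_nonZeroDivisors A B s.2⟩ : nonZeroDivisors B)

/-- The map of total rings of fractions induced by a flat homomorphism. -/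
noncomputable def fracMap : FractionRing A →ₐ[A] FractionRing B :=
  IsLocalization.liftAlgHom (M := nonZeroDivisors A) (f := Algebra.ofId A (FractionRing B))
    (fun s => isUnit_algebraMap_fractionRing A B s)

variable (A' : Type u) [CommRing A'] [Algebra A A'] [Algebra A' (FractionRing A)]
  [IsScalarTower A A' (FractionRing A)]

/-- The comparison map `A' ⊗[A] B → Frac B`. -/
noncomputable def Psi : A' ⊗[A] B →ₐ[A] FractionRing B :=
  Algebra.TensorProduct.productMap
    ((fracMap A B).comp (IsScalarTower.toAlgHom A A' (FractionRing A)))
    (IsScalarTower.toAlgHom A B (FractionRing B))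

theorem Psi_tmul (a : A') (b : B) :
    Psi A B A' (a ⊗ₜ b) =
      fracMap A B (algebraMap A' (FractionRing A) a) * algebraMap B (FractionRing B) b := by
  simp [Psi]

/-- The comparison map `Frac A ⊗[A] B → Frac B`. -/
noncomputable def Mu : (FractionRing A) ⊗[A] B →ₐ[A] FractionRing B :=
  Algebra.TensorProduct.productMap (fracMap A B) (IsScalarTower.toAlgHom A B (FractionRing B))

theorem Mu_tmul (a : FractionRing A) (b : B) :
    Mu A B (a ⊗ₜ b) = fracMap A B a * algebraMap B (FractionRing B) b := by
  simp [Mu]

theorem Mu_injective : Function.Injective (Mu A B) := by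
  rw [injective_iff_map_eq_zero]
  intro z hz
  obtain ⟨⟨b, s⟩, hbs⟩ := IsLocalizedModule.surj (nonZeroDivisors A)
    (TensorProduct.mk A (FractionRing A) B 1) z
  simp only [TensorProduct.mk_apply] at hbs
  have h1 : Mu A B (s • z) = 0 := by
    rw [Submonoid.smul_def, map_smul, hz, smul_zero]
  rw [hbs, Mu_tmul, map_one, one_mul] at h1
  have hb : b = 0 := by
    have hinj : Function.Injective (algebraMap B (FractionRing B)) :=
      IsLocalization.injective _ le_rfl
    exact hinj (by rw [h1, map_zero])
  rw [hb, TensorProduct.tmul_zero] at hbs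
  exact IsLocalizedModule.smul_injective (TensorProduct.mk A (FractionRing A) B 1) s
    (by simp only [smul_zero]; exact hbs)

theorem Psi_injective (hinj : Function.Injective (algebraMap A' (FractionRing A))) :
    Function.Injective (Psi A B A') := by
  have h1 : Function.Injective
      (LinearMap.rTensor B (IsScalarTower.toAlgHom A A' (FractionRing A)).toLinearMap) :=
    Module.Flat.rTensor_preserves_injective_linearMap _ hinj
  have h2 : ∀ z, Psi A B A' z =
      Mu A B (LinearMap.rTensor B (IsScalarTower.toAlgHom A A' (FractionRing A)).toLinearMap z) := by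
    intro z
    induction z using TensorProduct.induction_on with
    | zero => simp
    | tmul a b => rw [Psi_tmul, LinearMap.rTensor_tmul, Mu_tmul]; rfl
    | add z w hz hw => rw [map_add, map_add, map_add, hz, hw]
  intro z w hzw
  rw [h2, h2] at hzw
  exact h1 (Mu_injective A B hzw)

end

end Groth.Agent.H8.Delta
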