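import Mathlib
import Groth.Agent.Lib.Helper8.AUDvr.A4
import Groth.Agent.Lib.Helper8.Delta.D2
import Groth.Agent.Lib.Helper8.Delta.D3
import Groth.Agent.Lib.Helper8.Delta.D4
import Groth.Agent.Lib.Helper8.Delta.D5
import Groth.Agent.Lib.Helper8.Hens.LocalTensor

namespace Groth.Agent.H8.Delta
open IsLocalRing TensorProduct Polynomial
universe u

attribute [local instance] Algebra.TensorProduct.rightAlgebra in
/-- Under a flat local homomorphism `A → B` with `m_A B = m_B` and separable algebraic residue
field extension, the normalization of `B` is generated by the normalization `A'` of `A`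
(`A` of dimension `≤ 1` with finite, locally normal normalization). -/
theorem exists_Psi_eq_of_isIntegral (A B A' : Type u) [CommRing A] [CommRing B] [IsLocalRing A]
    [IsLocalRing B] [Algebra A B] [IsLocalHom (algebraMap A B)] [Module.Flat A B]
    [IsNoetherianRing A] [IsNoetherianRing B] [Ring.KrullDimLE 1 A]
    [CommRing A'] [Algebra A A'] [Algebra A' (FractionRing A)]
    [IsScalarTower A A' (FractionRing A)] [Module.Finite A A']
    (hinj : Function.Injective (algebraMap A' (FractionRing A)))
    [Algebra.IsSeparable (ResidueField A) (ResidueField B)]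
    (hm : (maximalIdeal A).map (algebraMap A B) = maximalIdeal B)
    (hnorm : ∀ (n : Ideal A') [n.IsPrime],
      IsDomain (Localization.AtPrime n) ∧ IsIntegrallyClosed (Localization.AtPrime n))
    (t : A) (htm : t ∈ maximalIdeal A) (ht : t ∈ nonZeroDivisors A)
    (x : FractionRing B) (hx : IsIntegral B x) :
    ∃ c, Psi A B A' c = x := by
  haveI : Module.Finite B (A' ⊗[A] B) := Hens.LT.finite_tensor_right A _ B
  haveI : IsNoetherianRing (A' ⊗[A] B) := by
    have := IsNoetherianRing.of_finite B (A' ⊗[A] B)
    exact this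
  haveI : IsNoetherianRing A' := IsNoetherianRing.of_finite A _
  haveI : Algebra.IsIntegral A A' := Algebra.IsIntegral.of_finite A A'
  -- `t` as an element of `A'`
  have ht' : algebraMap A A' t ∈ nonZeroDivisors A' := by
    rw [mem_nonZeroDivisors_iff_right]
    intro z hz
    have h1 : algebraMap A' (FractionRing A) z * algebraMap A (FractionRing A) t = 0 := by
      rw [IsScalarTower.algebraMap_apply A A' (FractionRing A), ← map_mul, hz, map_zero]
    have hu : IsUnit (algebraMap A (FractionRing A) t) :=
      IsLocalization.map_units (FractionRing A) (⟨t, ht⟩ : nonZeroDivisors A)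
    exact hinj (by rw [hu.mul_left_eq_zero.1 h1, map_zero])
  -- local normality of `A' ⊗ B`
  have hN : ∀ (N : Ideal (A' ⊗[A] B)) [N.IsMaximal],
      IsDomain (Localization.AtPrime N) ∧ IsIntegrallyClosed (Localization.AtPrime N) := by
    intro N hNmax
    haveI := hNmax.isPrime
    have hNB : N.comap (algebraMap B (A' ⊗[A] B)) = maximalIdeal B := by
      haveI : Algebra.IsIntegral B (A' ⊗[A] B) := Algebra.IsIntegral.of_finite B _
      exact IsLocalRing.eq_maximalIdeal
        (Ideal.isMaximal_comap_of_isIntegral_of_isMaximal (R := B) N)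
    have hnA : (N.comap (algebraMap A' (A' ⊗[A] B))).comap (algebraMap A A') = maximalIdeal A := by
      rw [Ideal.comap_comap, ← IsScalarTower.algebraMap_eq,
        IsScalarTower.algebraMap_eq A B, ← Ideal.comap_comap, hNB]
      exact ((local_hom_TFAE (algebraMap A B)).out 0 4).1 ‹IsLocalHom (algebraMap A B)›
    haveI hnmax : (N.comap (algebraMap A' (A' ⊗[A] B))).IsMaximal := by
      apply Ideal.isMaximal_of_isIntegral_of_isMaximal_comap (R := A)
      rw [hnA]; infer_instance
    obtain ⟨hd, hic⟩ := hnorm (N.comap (algebraMap A' (A' ⊗[A] B)))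
    haveI : IsDiscreteValuationRing (Localization.AtPrime (N.comap (algebraMap A' (A' ⊗[A] B)))) :=
      isDVR_atPrime_of_isIntegral A _ _ (algebraMap A _ t)
        (by
          rw [← Ideal.mem_comap, hnA]; exact htm) ht'
    obtain ⟨hd', hdvr⟩ := AUDvr.isDVR_atPrime_of_flat A' (A' ⊗[A] B)
      (N.comap (algebraMap A' (A' ⊗[A] B))) N rfl
      (fun y hy => exists_notMem_mul_mem_map A B _ hm _ hnA N hNmax.ne_top y hy)
    exact ⟨hd', inferInstance⟩
  obtain ⟨p, hp, hpx⟩ := hx
  obtain ⟨b, s₀, rfl⟩ := IsLocalization.exists_mk'_eq (nonZeroDivisors B) x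
  have hcomp : (Psi A B A').toRingHom.comp (algebraMap B (A' ⊗[A] B)) =
      algebraMap B (FractionRing B) := by
    ext b
    show Psi A B A' ((1 : A') ⊗ₜ[A] b) = _
    rw [Psi_tmul]; simp
  refine mem_range_of_isIntegral_of_normal (algebraMap B (A' ⊗[A] B)) (Psi A B A').toRingHom
    (Psi_injective A B A' hinj) hN _ p hp (by rw [hcomp]; exact hpx) s₀ b ?_ ?_
  · rw [← RingHom.comp_apply, hcomp]
    exact IsLocalization.map_units _ s₀
  · rw [← RingHom.comp_apply, ← RingHom.comp_apply, hcomp, mul_comm]
    exact IsLocalization.mk'_spec _ _ _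

end Groth.Agent.H8.Delta
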