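import Mathlib
import Groth.Agent.Lib.Helper8.Delta.D5

namespace Groth.Agent.H8.Delta
open IsLocalRing TensorProduct
universe u

section
variable (A B A' : Type u) [CommRing A] [CommRing B] [Algebra A B] [Module.Flat A B]
  [CommRing A'] [Algebra A A'] [Algebra A' (FractionRing A)] [IsScalarTower A A' (FractionRing A)]

/-- The `B`-linear comparison map `B ⊗[A] A' → Frac B`. -/
noncomputable def Phi : B ⊗[A] A' →ₗ[B] FractionRing B :=
  (((fracMap A B).comp (IsScalarTower.toAlgHom A A' (FractionRing A))).toLinearMap).liftBaseChange B

theorem Phi_tmul (b : B) (a : A') :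
    Phi A B A' (b ⊗ₜ a) =
      algebraMap B (FractionRing B) b * fracMap A B (algebraMap A' (FractionRing A) a) := by
  rw [Phi, LinearMap.liftBaseChange_tmul, Algebra.smul_def]
  rfl

theorem Phi_eq_Psi_comm (z : B ⊗[A] A') :
    Phi A B A' z = Psi A B A' (TensorProduct.comm A B A' z) := by
  induction z using TensorProduct.induction_on with
  | zero => simp
  | tmul b a => rw [Phi_tmul, TensorProduct.comm_tmul, Psi_tmul, mul_comm]
  | add z w hz hw => rw [map_add, map_add, map_add, hz, hw]

theorem Phi_injective (hinj : Function.Injective (algebraMap A' (FractionRing A))) :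
    Function.Injective (Phi A B A') := by
  intro z w h
  rw [Phi_eq_Psi_comm, Phi_eq_Psi_comm] at h
  exact (TensorProduct.comm A B A').injective (Psi_injective A B A' hinj h)

theorem Phi_isIntegral [Algebra.IsIntegral A A'] (z : B ⊗[A] A') : IsIntegral B (Phi A B A' z) := by
  induction z using TensorProduct.induction_on with
  | zero => rw [map_zero]; exact isIntegral_zero
  | tmul b a =>
    rw [Phi_tmul]
    refine IsIntegral.mul isIntegral_algebraMap ?_
    have h1 : IsIntegral A (fracMap A B (algebraMap A' (FractionRing A) a)) := by
      have : IsIntegral A a := Algebra.IsIntegral.isIntegral a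
      exact (this.map (IsScalarTower.toAlgHom A A' (FractionRing A))).map (fracMap A B)
    exact h1.tower_top
  | add z w hz hw => rw [map_add]; exact hz.add hw

end

end Groth.Agent.H8.Delta
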