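import Mathlib
import Groth.Agent.Lib.Helper8.Delta.D7

namespace Groth.Agent.H8.Delta
open IsLocalRing TensorProduct
universe u

section
variable (A B A' : Type u) [CommRing A] [CommRing B] [Algebra A B] [Module.Flat A B]
  [CommRing A'] [Algebra A A'] [Algebra A' (FractionRing A)] [IsScalarTower A A' (FractionRing A)]

/-- If the comparison map `B ⊗[A] A' → Frac B` is injective with image the integral closure of
`B`, then `B'/B ≅ B ⊗[A] (A'/A)`; in particular the lengths agree. -/
theorem length_quotient_eq [Algebra.IsIntegral A A']
    (hinj : Function.Injective (algebraMap A' (FractionRing A)))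
    (hsurj : ∀ x : FractionRing B, IsIntegral B x → ∃ z, Phi A B A' z = x) :
    Module.length B (↥(integralClosure B (FractionRing B)) ⧸
        LinearMap.range (Algebra.linearMap B ↥(integralClosure B (FractionRing B)))) =
      Module.length B (B ⊗[A] (A' ⧸ LinearMap.range (Algebra.linearMap A A'))) := by
  -- the map to `B'`
  let Φ' : B ⊗[A] A' →ₗ[B] ↥(integralClosure B (FractionRing B)) :=
    LinearMap.codRestrict (Subalgebra.toSubmodule (integralClosure B (FractionRing B)))
      (Phi A B A') (fun z => Phi_isIntegral A B A' z)
  have hΦ' : ∀ z, ((Φ' z : integralClosure B (FractionRing B)) : FractionRing B) = Phi A B A' z :=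
    fun z => rfl
  have hΦ'surj : Function.Surjective Φ' := by
    intro x
    obtain ⟨z, hz⟩ := hsurj x.1 x.2
    exact ⟨z, Subtype.ext hz⟩
  let Θ := (LinearMap.range (Algebra.linearMap B ↥(integralClosure B (FractionRing B)))).mkQ.comp Φ'
  have hΘsurj : Function.Surjective Θ := (Submodule.mkQ_surjective _).comp hΦ'surj
  let G : B ⊗[A] A' →ₗ[B] B ⊗[A] (A' ⧸ LinearMap.range (Algebra.linearMap A A')) :=
    LinearMap.baseChange B (LinearMap.range (Algebra.linearMap A A')).mkQ
  have hGsurj : Function.Surjective G :=
    LinearMap.lTensor_surjective B (Submodule.mkQ_surjective _)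
  have hexact : Function.Exact (LinearMap.lTensor B (Algebra.linearMap A A'))
      (LinearMap.lTensor B (LinearMap.range (Algebra.linearMap A A')).mkQ) :=
    lTensor_exact B (LinearMap.exact_map_mkQ_range (Algebra.linearMap A A'))
      (Submodule.mkQ_surjective _)
  have key : ∀ w : B ⊗[A] A, algebraMap B (FractionRing B) (TensorProduct.rid A B w) =
      Phi A B A' (LinearMap.lTensor B (Algebra.linearMap A A') w) := by
    intro w
    induction w using TensorProduct.induction_on with
    | zero => simp
    | tmul b a =>
      rw [LinearMap.lTensor_tmul, Phi_tmul, TensorProduct.rid_tmul]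
      rw [Algebra.linearMap_apply, ← IsScalarTower.algebraMap_apply A A' (FractionRing A),
        AlgHom.commutes, Algebra.smul_def, map_mul,
        ← IsScalarTower.algebraMap_apply A B (FractionRing B), mul_comm]
    | add z w hz hw =>
      rw [map_add, map_add, map_add, map_add, hz, hw]
  have hker : LinearMap.ker Θ = LinearMap.ker G := by
    ext z
    rw [LinearMap.mem_ker, LinearMap.mem_ker]
    constructor
    · intro hz
      rw [LinearMap.comp_apply, Submodule.mkQ_apply, Submodule.Quotient.mk_eq_zero] at hz
      obtain ⟨b, hb⟩ := hz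
      have h1 : Phi A B A' z = Phi A B A' (b ⊗ₜ (1 : A')) := by
        rw [← hΦ', ← hb, Phi_tmul, map_one, map_one, mul_one]
        rfl
      have h2 : z = b ⊗ₜ (1 : A') := Phi_injective A B A' hinj h1
      rw [h2]
      show (LinearMap.lTensor B (LinearMap.range (Algebra.linearMap A A')).mkQ) (b ⊗ₜ (1 : A')) = 0
      rw [LinearMap.lTensor_tmul, Submodule.mkQ_apply]
      have : (Submodule.Quotient.mk (1 : A') : A' ⧸ LinearMap.range (Algebra.linearMap A A')) = 0 := by
        rw [Submodule.Quotient.mk_eq_zero]
        exact ⟨1, by simp⟩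
      rw [this, TensorProduct.tmul_zero]
    · intro hz
      have hz' : (LinearMap.lTensor B (LinearMap.range (Algebra.linearMap A A')).mkQ) z = 0 := hz
      obtain ⟨w, rfl⟩ := (hexact z).1 hz'
      rw [LinearMap.comp_apply, Submodule.mkQ_apply, Submodule.Quotient.mk_eq_zero]
      refine ⟨TensorProduct.rid A B w, ?_⟩
      apply Subtype.ext
      rw [hΦ']
      exact key w
  have e1 := Θ.quotKerEquivOfSurjective hΘsurj
  have e2 := G.quotKerEquivOfSurjective hGsurj
  rw [← e1.length_eq, ← e2.length_eq]
  exact (Submodule.quotEquivOfEq _ _ hker).length_eq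

end

end Groth.Agent.H8.Delta
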