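import Mathlib
import Groth.Prelude.Def_Curv2
import Groth.Agent.Lib.Helper8.Delta.D6
import Groth.Agent.Lib.Helper8.Delta.D8

namespace Groth.Agent.H8.Delta
open IsLocalRing TensorProduct
universe u

/-- Invariance of the `δ`-invariant under a flat local homomorphism `A → B` with `m_A B = m_B` and
separable algebraic residue field extension (`A` of dimension `≤ 1`, with finite and locally
normal normalization, and `m_A` containing a nonzerodivisor). -/
theorem deltaInv_eq_of_flat (A B : Type u) [CommRing A] [CommRing B] [IsLocalRing A]
    [IsLocalRing B] [Algebra A B] [IsLocalHom (algebraMap A B)] [Module.Flat A B]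
    [IsNoetherianRing A] [IsNoetherianRing B] [Ring.KrullDimLE 1 A]
    [Module.Finite A (integralClosure A (FractionRing A))]
    [Algebra.IsSeparable (ResidueField A) (ResidueField B)]
    (hm : (maximalIdeal A).map (algebraMap A B) = maximalIdeal B)
    (hnorm : ∀ (n : Ideal (integralClosure A (FractionRing A))) [n.IsPrime],
      IsDomain (Localization.AtPrime n) ∧ IsIntegrallyClosed (Localization.AtPrime n))
    (t : A) (htm : t ∈ maximalIdeal A) (ht : t ∈ nonZeroDivisors A) :
    Curv2.deltaInv B = Curv2.deltaInv A := by
  have hinj : Function.Injective (algebraMap (integralClosure A (FractionRing A)) (FractionRing A)) :=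
    Subtype.val_injective
  have hsurj : ∀ x : FractionRing B, IsIntegral B x →
      ∃ z, Phi A B (integralClosure A (FractionRing A)) z = x := by
    intro x hx
    obtain ⟨c, hc⟩ := exists_Psi_eq_of_isIntegral A B (integralClosure A (FractionRing A)) hinj hm
      hnorm t htm ht x hx
    refine ⟨(TensorProduct.comm A B _).symm c, ?_⟩
    rw [Phi_eq_Psi_comm, LinearEquiv.apply_symm_apply, hc]
  unfold Curv2.deltaInv
  rw [length_quotient_eq A B (integralClosure A (FractionRing A)) hinj hsurj,
    IsLocalRing.length_baseChange, hm]
  haveI : IsSimpleModule B (B ⧸ maximalIdeal B) := by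
    rw [isSimpleModule_iff_quot_maximal]
    exact ⟨maximalIdeal B, inferInstance, ⟨LinearEquiv.refl _ _⟩⟩
  rw [Module.length_eq_one (R := B) (M := B ⧸ maximalIdeal B), mul_one]

end Groth.Agent.H8.Delta
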