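import Mathlib
import Groth.Prelude.Def_Curv2
import Groth.Prelude.Def_Found
import Groth.Agent.Lib.Helper8.Delta.D9
import Groth.Agent.H4.TotFrac

namespace Groth.Agent.H8.Delta
open IsLocalRing TensorProduct
open Groth.Agent.H4.TotFrac
universe u

/-- A reduced Noetherian local ring of dimension one has a nonzerodivisor in its maximal ideal. -/
theorem exists_mem_maximalIdeal_nonZeroDivisors (A : Type u) [CommRing A] [IsLocalRing A]
    [IsReduced A] [IsNoetherianRing A] (hdim : ringKrullDim A = 1) :
    ∃ t : A, t ∈ maximalIdeal A ∧ t ∈ nonZeroDivisors A := by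
  classical
  by_contra hcon
  push Not at hcon
  have hfin := minimalPrimes.finite_of_isNoetherianRing A
  have hsub : (maximalIdeal A : Set A) ⊆
      ⋃ q ∈ (↑hfin.toFinset : Set (Ideal A)), (((fun q : Ideal A => q) q : Ideal A) : Set A) := by
    intro t ht
    have := hcon t ht
    rw [Groth.Agent.H4.TotFrac.mem_nonZeroDivisors_iff] at this
    push Not at this
    obtain ⟨p, hp⟩ := this
    simp only [Set.mem_iUnion]
    exact ⟨p.1, by simp [p.2], hp⟩
  obtain ⟨q, hq, hle⟩ := (Ideal.subset_union_prime (R := A) (s := hfin.toFinset)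
    (f := fun q => q) ⊥ ⊥ (fun q hq _ _ => (hfin.mem_toFinset.1 hq).1.1)).1 hsub
  have hqmin : q ∈ minimalPrimes A := hfin.mem_toFinset.1 hq
  haveI := hqmin.1.1
  have hqm : q = maximalIdeal A := le_antisymm (le_maximalIdeal (Ideal.IsPrime.ne_top ‹_›)) hle
  haveI : Ring.KrullDimLE 0 A := by
    rw [Ring.krullDimLE_zero_iff]
    intro I hI
    have h1 : I ≤ q := hqm ▸ le_maximalIdeal hI.ne_top
    have h2 : q ≤ I := hqmin.2 ⟨hI, bot_le⟩ h1
    have : I = maximalIdeal A := by rw [← hqm]; exact le_antisymm h1 h2
    rw [this]; infer_instance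
  have h0 : ringKrullDim A ≤ 0 := by
    have := (Order.krullDimLE_iff (n := 0) (α := PrimeSpectrum A)).1 ‹Ring.KrullDimLE 0 A›
    simpa [ringKrullDim] using this
  rw [hdim] at h0
  exact absurd h0 (by norm_num)

/-- Invariance of the `δ`-invariant of a reduced Nagata local ring of dimension one under a flat
local homomorphism `A → B` with `m_A B = m_B` and separable algebraic residue field extension. -/
theorem deltaInv_eq_of_isNagata (A B : Type u) [CommRing A] [CommRing B] [IsLocalRing A]
    [IsLocalRing B] [Algebra A B] [IsLocalHom (algebraMap A B)] [Module.Flat A B]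
    [IsReduced A] (hN : CAlg.IsNagata A) (hdim : ringKrullDim A = 1) [IsNoetherianRing B]
    [Algebra.IsSeparable (ResidueField A) (ResidueField B)]
    (hm : (maximalIdeal A).map (algebraMap A B) = maximalIdeal B) :
    Curv2.deltaInv B = Curv2.deltaInv A := by
  haveI : IsNoetherianRing A := hN.1
  have hfinmin := minimalPrimes.finite_of_isNoetherianRing A
  haveI : Finite (MinP A) := hfinmin.to_subtype
  have hfin : ∀ p : MinP A, Module.Finite (A ⧸ p.1) (D p) := fun p =>
    hN.2 p.1 (FractionRing (A ⧸ p.1)) inferInstance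
  haveI h1 : Module.Finite A (integralClosure A (FractionRing A)) := finite_of_components hfin
  haveI : Ring.KrullDimLE 1 A := by
    rw [Ring.KrullDimLE, Order.krullDimLE_iff]; exact hdim.le
  obtain ⟨t, htm, ht⟩ := exists_mem_maximalIdeal_nonZeroDivisors A hdim
  exact deltaInv_eq_of_flat A B hm (fun n _ => locAtPrime_A' n) t htm ht

end Groth.Agent.H8.Delta
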